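import Cfsg.Agent.H613.KKL.Defs
import Cfsg.Agent.CharDeep.TripleCover
import Cfsg.Agent.Blocks.Deflate
import Cfsg.Agent.Blocks.Knorr
import Cfsg.Agent.H646.PIndex
import Cfsg.Agent.H646.DefectBasic
import Cfsg.Agent.H681.DegBasic
import Cfsg.Agent.S0887
import Cfsg.Agent.S0914
import Cfsg.Agent.S0964

/-!
# S4546, B4 part 1: the cover of a character triple `(G, N, ξ)`, `ξ` of `p`-defect zero (helper289)

* `exists_cover_of_extension` : if `ξ` extends to a subgroup `P ≥ N` of index prime to `p`, there is a finite central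
  extension `π : D → G` with kernel a `p'`-group, a section `s` of `π` over `N` and an irreducible character `ψ` of `D`
  with `ψ (s n) = ξ n` (the kernel of a transfer map on the group of all intertwiners).
* `extends_of_zero` : an invariant character of `p`-defect zero extends to a group of `p`-power index.
* `exists_cover`, `B4a` : the cover for characters of `p`-defect zero.
-/

set_option autoImplicit false

open Cfsg

namespace Cfsg.Agent.H289.KKL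

open Cfsg.Agent.Characters.Core Cfsg.Agent.H613.KKL

universe u

open Cfsg.Agent.CharDeep.TripleCover Cfsg.Agent.CharDeep.ProjExt Cfsg.Agent.CharDeep.TransferExt Module in
theorem exists_cover_of_extension {G : Type u} [Group G] [Finite G] (p : ℕ) [Fact p.Prime] (N P : Subgroup G)
    [hN : N.Normal] (hNP : N ≤ P) (hP : ¬ p ∣ P.index) {d : ℕ} (ρ : Representation ℂ N (Fin d → ℂ))
    (hρ : ρ.IsIrreducible) (hinv : ∀ (g : G) (n : N), ρ.character (MulAut.conjNormal g n) = ρ.character n)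
    (R : Representation ℂ P (Fin d → ℂ)) (hR : ∀ n : N, R ⟨n, hNP n.2⟩ = ρ n) :
    ∃ (D : Type u) (_ : Group D) (_ : Finite D) (π : D →* G) (s : N →* D) (ψ : D → ℂ),
      Function.Surjective π ∧ π.ker ≤ Subgroup.center D ∧ ¬ p ∣ Nat.card π.ker ∧
      (∀ n, π (s n) = n) ∧ (∀ (x : D) (n : N), x * s n * x⁻¹ = s (MulAut.conjNormal (π x) n)) ∧
      IsIrrCharacter D ψ ∧ (∀ n, ψ (s n) = ρ.character n) ∧ ∀ z ∈ π.ker, ψ z ≠ 0 := by
  classical
  have hp : p.Prime := Fact.out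
  let V := Fin d → ℂ
  have hV : Nontrivial V := ((CharDeep.LinearChar.isIrreducible_iff ρ).1 hρ).1
  set r := P.index with hr
  have hr0 : r ≠ 0 := Subgroup.index_ne_zero_of_finite
  let Γ : Subgroup (G × (V →ₗ[ℂ] V)ˣ) := intGroup ρ
  have hsurj : Function.Surjective (proj Γ) := by
    intro g
    obtain ⟨T, hT, -⟩ := exists_mem_intGroup ρ hρ hinv g 1
    exact ⟨⟨(g, T), hT⟩, rfl⟩
  obtain ⟨ϕ, hϕ⟩ := exists_scalarHom ρ hρ Γ le_rfl P hNP R hR
  have hidx : (P.comap (proj Γ)).index = r := Subgroup.index_comap_of_surjective P hsurj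
  have hfi : (P.comap (proj Γ)).FiniteIndex := ⟨by rw [hidx]; exact hr0⟩
  let T : Γ →* ℂˣ := MonoidHom.transfer ϕ
  have hle : N.comap (proj Γ) ≤ P.comap (proj Γ) := Subgroup.comap_mono hNP
  let ϕN : N.comap (proj Γ) →* ℂˣ := ϕ.comp (Subgroup.inclusion hle)
  have hϕN : ∀ x : N.comap (proj Γ), (opr Γ (x : Γ) : V →ₗ[ℂ] V) = (ϕN x : ℂ) • ρ ⟨proj Γ x, x.2⟩ := by
    intro x
    rw [← hR ⟨proj Γ x, x.2⟩]
    exact hϕ (Subgroup.inclusion hle x)
  have hTN : ∀ (x : Γ) (hx : x ∈ N.comap (proj Γ)), T x = ϕN ⟨x, hx⟩ ^ r := by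
    intro x hx
    rw [← hidx]
    exact transfer_apply_of_mem (N.comap (proj Γ)) hle ϕ
      (fun g n hn => scalarHom_conj ρ hρ Γ le_rfl ϕN hϕN g ⟨n, hn⟩) x hx
  let Δ : Subgroup (G × (V →ₗ[ℂ] V)ˣ) := T.ker.map Γ.subtype
  have hmem : ∀ x : G × (V →ₗ[ℂ] V)ˣ, x ∈ Δ ↔ ∃ h : x ∈ Γ, T ⟨x, h⟩ = 1 := by
    intro x
    constructor
    · rintro ⟨y, hy, rfl⟩
      exact ⟨y.2, hy⟩
    · rintro ⟨h, hx⟩
      exact ⟨⟨x, h⟩, hx, rfl⟩
  have hΔ : Δ ≤ Γ := fun x hx => ((hmem x).1 hx).1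
  have hext : ∀ x y : Δ, x.1.1 = y.1.1 → (x.1.2 : V →ₗ[ℂ] V) = (y.1.2 : V →ₗ[ℂ] V) → x = y :=
    fun x y h1 h2 => Subtype.ext (Prod.ext h1 (Units.ext h2))
  have hker : ∀ x : Δ, x ∈ (proj Δ).ker → ∃ c : ℂ, (x.1.2 : V →ₗ[ℂ] V) = c • (1 : V →ₗ[ℂ] V) ∧
      c ^ r = 1 := by
    intro x hx
    obtain ⟨h1, h2⟩ := (hmem x.1).1 x.2
    have h3 : proj Γ ⟨x.1, h1⟩ = 1 := hx
    have h4 : (⟨x.1, h1⟩ : Γ) ∈ N.comap (proj Γ) := by
      rw [Subgroup.mem_comap, h3]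
      exact N.one_mem
    refine ⟨ϕN ⟨⟨x.1, h1⟩, h4⟩, ?_, ?_⟩
    · have h5 := hϕN ⟨⟨x.1, h1⟩, h4⟩
      have h6 : (⟨proj Γ ⟨x.1, h1⟩, h4⟩ : N) = 1 := Subtype.ext h3
      rw [h6, map_one] at h5
      exact h5
    · rw [hTN _ h4] at h2
      have h5 := congrArg Units.val h2
      rwa [Units.val_pow_eq_pow_val, Units.val_one] at h5
  have hpow : ∀ x : (proj Δ).ker, x ^ r = 1 := by
    intro x
    obtain ⟨c, hc, hc1⟩ := hker x.1 x.2
    apply Subtype.ext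
    apply hext
    · have h1 : (x : Δ).1.1 = 1 := x.2
      show (((x ^ r : (proj Δ).ker) : Δ) : G × (V →ₗ[ℂ] V)ˣ).1 = 1
      rw [Subgroup.coe_pow, Subgroup.coe_pow, Prod.pow_fst, h1, one_pow]
    · show (((((x ^ r : (proj Δ).ker) : Δ) : G × (V →ₗ[ℂ] V)ˣ).2 : (V →ₗ[ℂ] V)ˣ) : V →ₗ[ℂ] V) = 1
      rw [Subgroup.coe_pow, Subgroup.coe_pow, Prod.pow_snd, Units.val_pow_eq_pow_val, hc,
        smul_pow, one_pow, hc1, one_smul]
  have hfin : Finite (proj Δ).ker := by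
    have : NeZero r := ⟨hr0⟩
    have hroots : Finite (rootsOfUnity r ℂ) := inferInstance
    choose c hc hcpow using hker
    refine Finite.of_injective
      (fun x : (proj Δ).ker => (rootsOfUnity.mkOfPowEq (n := r) (c x.1 x.2) (hcpow x.1 x.2))) ?_
    intro x y hxy
    have h3 : c x.1 x.2 = c y.1 y.2 := by
      have := congrArg (fun z : rootsOfUnity r ℂ => ((z : ℂˣ) : ℂ)) hxy
      simpa using this
    apply Subtype.ext
    apply hext
    · exact (x.2 : proj Δ x.1 = 1).trans (y.2 : proj Δ y.1 = 1).symm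
    · rw [hc x.1 x.2, hc y.1 y.2, h3]
  have hfinΔ : Finite Δ :=
    Finite.of_equiv _ (Subgroup.groupEquivQuotientProdSubgroup (s := (proj Δ).ker)).symm
  have hsec : ∀ n, sec ρ n ∈ Δ := by
    intro n
    have h1 : sec ρ n ∈ Γ := sec_mem_intGroup ρ n
    refine (hmem _).2 ⟨h1, ?_⟩
    have h2 : (⟨sec ρ n, h1⟩ : Γ) ∈ N.comap (proj Γ) := n.2
    rw [hTN _ h2]
    have h3 := hϕN ⟨⟨sec ρ n, h1⟩, h2⟩
    have h4 : (opr Γ ⟨sec ρ n, h1⟩ : V →ₗ[ℂ] V) = ρ n := rfl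
    have h5 : (⟨proj Γ ⟨sec ρ n, h1⟩, h2⟩ : N) = n := rfl
    rw [h4, h5] at h3
    have h6 : (ϕN ⟨⟨sec ρ n, h1⟩, h2⟩ : ℂ) = 1 := by
      have h7 : (ϕN ⟨⟨sec ρ n, h1⟩, h2⟩ : ℂ) • (1 : V →ₗ[ℂ] V) = 1 := by
        have h8 : ρ n * ρ n⁻¹ = ((ϕN ⟨⟨sec ρ n, h1⟩, h2⟩ : ℂ) • ρ n) * ρ n⁻¹ := by rw [← h3]
        rw [smul_mul_assoc, ← map_mul, mul_inv_cancel, map_one] at h8
        exact h8.symm
      obtain ⟨v, hv⟩ := exists_ne (0 : V)
      have h9 := congrArg (fun t : V →ₗ[ℂ] V => t v) h7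
      simp only [LinearMap.smul_apply, Module.End.one_apply] at h9
      have h10 : ((ϕN ⟨⟨sec ρ n, h1⟩, h2⟩ : ℂ) - 1) • v = 0 := by rw [sub_smul, h9, one_smul, sub_self]
      rcases smul_eq_zero.1 h10 with h11 | h11
      · exact sub_eq_zero.1 h11
      · exact absurd h11 hv
    rw [Units.ext (h6.trans Units.val_one.symm), one_pow]
  let s : N →* Δ := (sec ρ).codRestrict Δ hsec
  have hirr : (coverRep Δ).IsIrreducible := by
    apply Blocks.Deflate.isIrreducible_of_comp s (coverRep Δ)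
    have h1 : ((coverRep Δ).comp s : Representation ℂ N V) = ρ := by
      ext n : 1
      rfl
    rw [h1]
    exact hρ
  refine ⟨Δ, inferInstance, hfinΔ, proj Δ, s, (coverRep Δ).character, ?_, ?_, ?_, ?_, ?_, ?_, ?_, ?_⟩
  · intro g
    obtain ⟨x, rfl⟩ := hsurj g
    obtain ⟨c, hc⟩ := IsAlgClosed.exists_pow_nat_eq ((T x : ℂ)⁻¹) (Nat.pos_of_ne_zero hr0)
    have hc0 : c ≠ 0 := by
      rintro rfl
      rw [zero_pow hr0] at hc
      exact inv_ne_zero (T x).ne_zero hc.symm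
    let Z : (V →ₗ[ℂ] V)ˣ := Units.map (algebraMap ℂ (V →ₗ[ℂ] V)).toMonoidHom (Units.mk0 c hc0)
    have hZ : (Z : V →ₗ[ℂ] V) = c • (1 : V →ₗ[ℂ] V) := Algebra.algebraMap_eq_smul_one c
    have hz : ((1 : G), Z) ∈ Γ := by
      intro n
      show (Z : V →ₗ[ℂ] V) * ρ n = ρ (MulAut.conjNormal 1 n) * (Z : V →ₗ[ℂ] V)
      rw [hZ, smul_mul_assoc, mul_smul_comm, one_mul, mul_one, map_one, MulAut.one_apply]
    have hz' : (⟨((1 : G), Z), hz⟩ : Γ) ∈ N.comap (proj Γ) := N.one_mem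
    have h1 : (ϕN ⟨⟨((1 : G), Z), hz⟩, hz'⟩ : ℂ) = c := by
      have h2 := hϕN ⟨⟨((1 : G), Z), hz⟩, hz'⟩
      have h3 : (⟨proj Γ ⟨((1 : G), Z), hz⟩, hz'⟩ : N) = 1 := rfl
      have h4 : (opr Γ ⟨((1 : G), Z), hz⟩ : V →ₗ[ℂ] V) = (Z : V →ₗ[ℂ] V) := rfl
      rw [h3, map_one, h4, hZ] at h2
      obtain ⟨v, hv⟩ := exists_ne (0 : V)
      have h9 := congrArg (fun t : V →ₗ[ℂ] V => t v) h2
      simp only [LinearMap.smul_apply, Module.End.one_apply] at h9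
      have h10 : ((ϕN ⟨⟨((1 : G), Z), hz⟩, hz'⟩ : ℂ) - c) • v = 0 := by rw [sub_smul, ← h9, sub_self]
      rcases smul_eq_zero.1 h10 with h11 | h11
      · exact sub_eq_zero.1 h11
      · exact absurd h11 hv
    have h2 : T (x * ⟨((1 : G), Z), hz⟩) = 1 := by
      rw [map_mul, hTN _ hz']
      apply Units.ext
      rw [Units.val_mul, Units.val_pow_eq_pow_val, h1, hc, mul_inv_cancel₀ (T x).ne_zero, Units.val_one]
    refine ⟨⟨(x * ⟨((1 : G), Z), hz⟩ : Γ), (hmem _).2 ⟨(x * ⟨((1 : G), Z), hz⟩ : Γ).2, h2⟩⟩, ?_⟩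
    show x.1.1 * 1 = x.1.1
    rw [mul_one]
  · intro x hx
    obtain ⟨c, hc, -⟩ := hker x hx
    rw [Subgroup.mem_center_iff]
    intro y
    apply hext
    · show y.1.1 * x.1.1 = x.1.1 * y.1.1
      have : x.1.1 = 1 := hx
      rw [this, mul_one, one_mul]
    · show ((y.1.2 * x.1.2 : (V →ₗ[ℂ] V)ˣ) : V →ₗ[ℂ] V) = ((x.1.2 * y.1.2 : (V →ₗ[ℂ] V)ˣ) : _)
      rw [Units.val_mul, Units.val_mul, hc, smul_mul_assoc, mul_smul_comm, one_mul, mul_one]
  · intro h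
    obtain ⟨x, hx⟩ := exists_prime_orderOf_dvd_card' p h
    apply hP
    rw [← hx]
    exact orderOf_dvd_of_pow_eq_one (hpow x)
  · intro n
    rfl
  · intro x n
    exact Subtype.ext (conj_sec ρ x.1 (hΔ x.2) n)
  · exact isIrrCharacter_of_rep _ hirr
  · intro n
    rfl
  · intro z hz
    obtain ⟨c, hc, hc1⟩ := hker z hz
    have h1 : (coverRep Δ).character z = c * (finrank ℂ V : ℂ) := by
      show LinearMap.trace ℂ V (coverRep Δ z) = _
      rw [coverRep_apply, hc, map_smul, smul_eq_mul, LinearMap.trace_one]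
    rw [h1]
    refine mul_ne_zero ?_ (by exact_mod_cast (finrank_pos (R := ℂ) (M := V)).ne')
    rintro rfl
    rw [zero_pow hr0] at hc1
    exact zero_ne_one hc1

/-! ### Extension to groups of `p`-power index -/

theorem extends_of_zero {Q : Type u} [Group Q] [Finite Q] (p : ℕ) [Fact p.Prime] (N : Subgroup Q) [hN : N.Normal]
    (hidx : ∃ k : ℕ, N.index = p ^ k) (ξ : IrrCharacter N)
    (hinv : ∀ (g : Q) (n : N), (ξ : N → ℂ) ⟨g * n * g⁻¹, hN.conj_mem n n.2 g⟩ = (ξ : N → ℂ) n)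
    (h0 : (charDegree (ξ : N → ℂ)).factorization p = (Nat.card N).factorization p) :
    ∃ χ : Q → ℂ, IsIrrCharacter Q χ ∧ ∀ n : N, χ n = (ξ : N → ℂ) n := by
  classical
  have hp : p.Prime := Fact.out
  have := Fintype.ofFinite Q
  have := Fintype.ofFinite N
  obtain ⟨M, hM⟩ := Blocks.Knorr.exists_isPModular p
  have hprime : M.IsPrime := hM.2.1.isPrime
  have hd1 : charDegree (ξ : N → ℂ) ∣ Nat.card N := Blocks.Knorr.charDegree_dvd ξ.2
  have hcN : Nat.card N ≠ 0 := Nat.card_pos.ne'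
  have hcQ : Nat.card Q ≠ 0 := Nat.card_pos.ne'
  have hb1 : blockOf M (ξ : N → ℂ) = {ξ} := by
    rw [← S0914.result p M hM ξ]
    intro h
    have h1 : (Nat.card N / charDegree (ξ : N → ℂ)).factorization p = 0 := by
      rw [Nat.factorization_div hd1, Finsupp.tsub_apply, h0, Nat.sub_self]
    have h2 : Nat.card N / charDegree (ξ : N → ℂ) ≠ 0 :=
      (Nat.div_pos (Nat.le_of_dvd Nat.card_pos hd1) (Nat.pos_of_dvd_of_pos hd1 Nat.card_pos)).ne'
    exact absurd (hp.factorization_pos_of_dvd h2 h) (by omega)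
  have hb : IsPBlock M ({ξ} : Set (IrrCharacter N)) := ⟨ξ, hb1.symm⟩
  have hst : ∀ x : Q, StabilizesBlock N ({ξ} : Set (IrrCharacter N)) x := by
    intro x
    rw [H646.UCov.stabilizesBlock_iff_cj]
    intro θ hθ
    rw [Set.mem_singleton_iff] at hθ ⊢
    subst hθ
    apply Subtype.ext
    funext n
    rw [Blocks.Fong.cj_apply]
    exact hinv x⁻¹ n
  obtain ⟨B, ⟨hB, hcov⟩, -⟩ := S0966.result p M hM N hidx {ξ} hb
  obtain ⟨D, hD⟩ := H646.DefectBasic.exists_isDefectGroup (p := p) hM hB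
  obtain ⟨-, -, hdef⟩ := H646.PIndex.sup_eq_top_and_defect N hM hidx hb hst hB hcov hD
  have hdb : blockDefect p ({ξ} : Set (IrrCharacter N)) = 0 := by
    rw [Blocks.Basic.blockDefect_def, Set.image_singleton, csInf_singleton, h0, Nat.sub_self]
  rw [hdb, zero_add, Blocks.Basic.blockDefect_def] at hdef
  have hmul : Nat.card Q = Nat.card N * N.index := (Subgroup.card_mul_index N).symm
  have hi0 : N.index ≠ 0 := Subgroup.index_ne_zero_of_finite
  have hcd : (Nat.card Q).factorization p = (Nat.card N).factorization p + N.index.factorization p := by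
    rw [hmul, Nat.factorization_mul hcN hi0, Finsupp.add_apply]
  obtain ⟨χ₀, hχ₀, θ₀, hθ₀, h₀⟩ := hcov
  have hne : ((fun χ : IrrCharacter Q => (charDegree (χ : Q → ℂ)).factorization p) '' B).Nonempty := ⟨_, χ₀, hχ₀, rfl⟩
  obtain ⟨χ, hχ, hχm⟩ := Nat.sInf_mem hne
  rw [← hχm] at hdef
  simp only at hdef
  have hd2 : charDegree (χ : Q → ℂ) ∣ Nat.card Q := Blocks.Knorr.charDegree_dvd χ.2
  have hv : (charDegree (χ : Q → ℂ)).factorization p ≤ (Nat.card Q).factorization p :=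
    (Nat.factorization_le_iff_dvd (Nat.pos_of_dvd_of_pos hd2 Nat.card_pos).ne' hcQ).2 hd2 p
  -- a constituent of the restriction
  obtain ⟨ψ, hψ⟩ : ∃ ψ : IrrCharacter N, classInner (fun n : N => (χ : Q → ℂ) n) (ψ : N → ℂ) ≠ 0 := by
    obtain ⟨c, -, hc⟩ := isIrr_apply_one χ.2
    obtain ⟨ψ, -, hψ, -, h, -⟩ := H681.DegBasic.exists_constituent N χ.2 hc
    exact ⟨⟨ψ, hψ⟩, h⟩
  obtain ⟨g, θ', hθ', h1⟩ := S0964.result p M hM N B hB {ξ} hb χ₀ hχ₀ θ₀ hθ₀ h₀ χ hχ ψ hψ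
  have hψξ : ψ = ξ := by
    apply Subtype.ext
    funext n
    rw [h1 n, Set.mem_singleton_iff.1 hθ']
    exact hinv g n
  rw [hψξ] at hψ
  obtain ⟨c, hc0, hc⟩ := isIrr_apply_one χ.2
  obtain ⟨d, hd0, hd⟩ := isIrr_apply_one ξ.2
  obtain ⟨h2, h3⟩ := S0887.result N (χ : Q → ℂ) χ.2 (ξ : N → ℂ) ξ.2 hψ c d hc hd
  have hcc : charDegree (χ : Q → ℂ) = c := Blocks.Basic.charDegree_of_eq hc
  have hcd' : charDegree (ξ : N → ℂ) = d := Blocks.Basic.charDegree_of_eq hd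
  obtain ⟨k, hk⟩ := hidx
  rw [hk] at h3
  obtain ⟨i, -, hi⟩ := (Nat.dvd_prime_pow hp).1 h3
  have h4 : c = d * p ^ i := by rw [← hi, Nat.mul_div_cancel' h2]
  have h5 : i = 0 := by
    have h6 : c.factorization p = d.factorization p + i := by
      rw [h4, Nat.factorization_mul hd0.ne' (pow_ne_zero _ hp.ne_zero), Finsupp.add_apply,
        Nat.Prime.factorization_pow hp, Finsupp.single_eq_same]
    rw [hcc] at hdef hv
    rw [hcd'] at h0
    omega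
  rw [h5, pow_zero, mul_one] at h4
  refine ⟨χ, χ.2, fun n => ?_⟩
  have h7 := H681.DegBasic.restrict_eq_of_degree N (isIrr_isCharacter χ.2) ξ.2 hψ (by rw [hc, hd, h4])
  exact congrFun h7 n

/-! ### The cover -/

/-- An extension of the character gives an extension of the representation. -/
theorem exists_rep_extension {G : Type u} [Group G] [Finite G] {N P : Subgroup G} (hNP : N ≤ P) {d : ℕ}
    (ρ : Representation ℂ N (Fin d → ℂ)) (hρ : ρ.IsIrreducible) {χ : P → ℂ} (hχ : IsIrrCharacter P χ)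
    (h : ∀ n : N, χ ⟨n, hNP n.2⟩ = ρ.character n) :
    ∃ R : Representation ℂ P (Fin d → ℂ), ∀ n : N, R ⟨n, hNP n.2⟩ = ρ n := by
  obtain ⟨m, R₀, -, hR₀⟩ := hχ
  let ρ₀ : Representation ℂ N (Fin m → ℂ) := R₀.comp (Subgroup.inclusion hNP)
  have h1 : ρ.character = ρ₀.character := by
    funext n
    rw [← h n, ← hR₀]
    rfl
  obtain ⟨φ⟩ := CharDeep.IrrEquiv.nonempty_equiv ρ ρ₀ hρ h1
  let e : (Fin d → ℂ) ≃ₗ[ℂ] (Fin m → ℂ) := φ.toLinearEquiv
  have he : ∀ (n : N) (v : Fin d → ℂ), e (ρ n v) = ρ₀ n (e v) := by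
    intro n v
    exact congrArg (fun t : (Fin d → ℂ) →ₗ[ℂ] (Fin m → ℂ) => t v) (φ.isIntertwining' n)
  refine ⟨{ toFun := fun g => (e.symm : (Fin m → ℂ) →ₗ[ℂ] (Fin d → ℂ)) ∘ₗ R₀ g ∘ₗ (e : (Fin d → ℂ) →ₗ[ℂ] (Fin m → ℂ))
            map_one' := ?_
            map_mul' := ?_ }, ?_⟩
  · refine LinearMap.ext fun v => ?_
    simp
  · intro a b
    refine LinearMap.ext fun v => ?_
    simp
  · intro n
    refine LinearMap.ext fun v => ?_
    show e.symm (R₀ ⟨n, hNP n.2⟩ (e v)) = ρ n v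
    rw [LinearEquiv.symm_apply_eq, he]
    rfl

/-- **The cover of `(G, N, ξ)`, `ξ` an invariant character of `p`-defect zero.** -/
theorem exists_cover {G : Type u} [Group G] [Finite G] (p : ℕ) [Fact p.Prime] (N : Subgroup G) [hN : N.Normal]
    (ξ : IrrCharacter N)
    (hinv : ∀ (g : G) (n : N), (ξ : N → ℂ) ⟨g * n * g⁻¹, hN.conj_mem n n.2 g⟩ = (ξ : N → ℂ) n)
    (h0 : (charDegree (ξ : N → ℂ)).factorization p = (Nat.card N).factorization p) :
    ∃ (D : Type u) (_ : Group D) (_ : Finite D) (π : D →* G) (s : N →* D) (ψ : D → ℂ),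
      Function.Surjective π ∧ π.ker ≤ Subgroup.center D ∧ ¬ p ∣ Nat.card π.ker ∧
      (∀ n, π (s n) = n) ∧ (∀ (x : D) (n : N), x * s n * x⁻¹ = s (MulAut.conjNormal (π x) n)) ∧
      IsIrrCharacter D ψ ∧ (∀ n, ψ (s n) = (ξ : N → ℂ) n) ∧ ∀ z ∈ π.ker, ψ z ≠ 0 := by
  classical
  have hp : p.Prime := Fact.out
  obtain ⟨S⟩ : Nonempty (Sylow p G) := inferInstance
  let P : Subgroup G := N ⊔ (S : Subgroup G)
  have hNP : N ≤ P := le_sup_left
  have hSP : (S : Subgroup G) ≤ P := le_sup_right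
  have hP : ¬ p ∣ P.index := fun h => S.not_dvd_index (h.trans (Subgroup.index_dvd_of_le hSP))
  obtain ⟨d, ρ, hρ, hρξ⟩ := ξ.2
  have hinv' : ∀ (g : G) (n : N), ρ.character (MulAut.conjNormal g n) = ρ.character n := by
    intro g n
    rw [hρξ, ← hinv g n]
    congr 1
  -- the extension to `P`
  let e : N.subgroupOf P ≃* N := Subgroup.subgroupOfEquivOfLe hNP
  have hidx : ∃ k : ℕ, (N.subgroupOf P).index = p ^ k := by
    have h1 : N.relIndex P = N.relIndex (S : Subgroup G) := Subgroup.relIndex_sup_left _ _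
    have h2 : N.relIndex (S : Subgroup G) ∣ Nat.card (S : Subgroup G) := Subgroup.relIndex_dvd_card _ _
    obtain ⟨n, hn⟩ := IsPGroup.iff_card.1 S.isPGroup'
    rw [hn] at h2
    obtain ⟨k, -, hk⟩ := (Nat.dvd_prime_pow hp).1 h2
    exact ⟨k, h1.trans hk⟩
  obtain ⟨χ, hχ, hχξ⟩ := extends_of_zero p (N.subgroupOf P) hidx
    ⟨(ξ : N → ℂ) ∘ e.toMonoidHom, isIrr_comp e.toMonoidHom e.surjective ξ.2⟩ (by
      intro g n
      exact hinv g (e n)) (by
      have h1 : charDegree ((ξ : N → ℂ) ∘ e.toMonoidHom) = charDegree (ξ : N → ℂ) := by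
        unfold charDegree
        rw [Function.comp_apply, map_one]
      show (charDegree ((ξ : N → ℂ) ∘ e.toMonoidHom)).factorization p = _
      rw [h1, h0, Nat.card_congr e.toEquiv])
  obtain ⟨R, hR⟩ := exists_rep_extension hNP ρ hρ hχ (by
    intro n
    have h1 := hχξ ⟨⟨n, hNP n.2⟩, n.2⟩
    rw [hρξ]
    exact h1)
  obtain ⟨D, i1, i2, π, s, ψ, h1, h2, h3, h4, h5, h6, h7, h8⟩ :=
    exists_cover_of_extension p N P hNP hP ρ hρ hinv' R hR
  exact ⟨D, i1, i2, π, s, ψ, h1, h2, h3, h4, h5, h6, fun n => (h7 n).trans (congrFun hρξ n), h8⟩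

/-- **B4, part 1.** -/
theorem B4a {G : Type u} [Group G] [Finite G] (N : Subgroup G) [hN : N.Normal] (ξ : IrrCharacter ↥N) (hξ : Inv N ξ)
    (h0 : (charDegree (ξ : ↥N → ℂ)).factorization 2 = (Nat.card ↥N).factorization 2) :
    ∃ (X : Type u) (_ : Group X) (_ : Finite X) (π : X →* G) (s : ↥N →* X) (χ : IrrCharacter X),
      Function.Surjective π ∧ π.ker ≤ Subgroup.center X ∧ Odd (Nat.card ↥π.ker) ∧ (∀ n, π (s n) = (n : G)) ∧
      (∀ (x : X) (n : ↥N), x * s n * x⁻¹ = s (MulAut.conjNormal (π x) n)) ∧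
      (∀ n, (χ : X → ℂ) (s n) = (ξ : ↥N → ℂ) n) ∧ ∀ z ∈ π.ker, (χ : X → ℂ) z ≠ 0 := by
  have : Fact (Nat.Prime 2) := ⟨Nat.prime_two⟩
  obtain ⟨D, i1, i2, π, s, ψ, h1, h2, h3, h4, h5, h6, h7, h8⟩ := exists_cover 2 N ξ
    (fun g n => hξ g n ⟨g * n * g⁻¹, hN.conj_mem n n.2 g⟩ rfl) h0
  refine ⟨D, i1, i2, π, s, ⟨ψ, h6⟩, h1, h2, ?_, h4, h5, h7, h8⟩
  rw [← Nat.not_even_iff_odd, even_iff_two_dvd]
  exact h3

end Cfsg.Agent.H289.KKL
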