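import Cfsg.Agent.H289.KKL.Cover
import Cfsg.Agent.H592.HarStar

/-!
# S4546, B4 part 1 in the form of helper592's structure `Cover` (helper289)
-/

set_option autoImplicit false

open Cfsg

namespace Cfsg.Agent.H289.KKL

open Cfsg.Agent.H613.KKL

universe u

/-- **The cover of `(G, N, ξ)`, `ξ` an invariant character of `p`-defect zero.** -/
theorem exists_cover' {G : Type u} [Group G] [Finite G] (p : ℕ) [Fact p.Prime] (N : Subgroup G) [hN : N.Normal]
    (ξ : IrrCharacter N)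
    (hinv : ∀ (g : G) (n : N), (ξ : N → ℂ) ⟨g * n * g⁻¹, hN.conj_mem n n.2 g⟩ = (ξ : N → ℂ) n)
    (h0 : (charDegree (ξ : N → ℂ)).factorization p = (Nat.card N).factorization p) :
    ∃ (E : Type u) (_ : Group E) (_ : Finite E), Nonempty (H592.Har.Cover p N (ξ : N → ℂ) E) := by
  obtain ⟨D, i1, i2, π, s, ψ, h1, h2, h3, h4, h5, h6, h7, h8⟩ := exists_cover p N ξ hinv h0
  refine ⟨D, i1, i2, ⟨⟨π, s, ψ, h1, h2, h3, h4, ?_, h6, h7, h8⟩⟩⟩
  refine ⟨?_⟩
  rintro _ ⟨n, rfl⟩ x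
  exact ⟨MulAut.conjNormal (π x) n, (h5 x n).symm⟩

/-- **B4, part 1.** -/
theorem B4cover {G : Type u} [Group G] [Finite G] (N : Subgroup G) [hN : N.Normal] (ξ : IrrCharacter ↥N) (hξ : Inv N ξ)
    (h0 : (charDegree (ξ : ↥N → ℂ)).factorization 2 = (Nat.card ↥N).factorization 2) :
    ∃ (E : Type u) (_ : Group E) (_ : Finite E), Nonempty (H592.Har.Cover 2 N (ξ : N → ℂ) E) := by
  have : Fact (Nat.Prime 2) := ⟨Nat.prime_two⟩
  exact exists_cover' 2 N ξ (fun g n => hξ g n ⟨g * n * g⁻¹, hN.conj_mem n n.2 g⟩ rfl) h0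

end Cfsg.Agent.H289.KKL
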